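import Groth.Prelude.Def_RegImm
import Groth.Agent.Lib.Synt92.CubeBase
import Groth.Agent.Lib.Synt92.KRImm
import Groth.Agent.H47.ChartPullback
import Mathlib.RingTheory.Flat.EquationalCriterion

/-!
# Regular sequences and regular immersions under flat base change
-/

universe u

open CategoryTheory CategoryTheory.Limits AlgebraicGeometry MvPolynomial

namespace Groth.Agent.Lib.RegImmFlat

variable {A B : Type u} [CommRing A] [CommRing B] (φ : A →+* B)

theorem h1_map (hφ : φ.Flat) {c : ℕ} (f : Fin c → A) (hf : CAlgX.IsH1Regular f) :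
    CAlgX.IsH1Regular (fun i => φ (f i)) := by
  letI := φ.toAlgebra
  haveI : Module.Flat A B := hφ
  intro x hx
  obtain ⟨k, a, y, hxy, hay⟩ := Module.Flat.isTrivialRelation_of_sum_smul_eq_zero
    (R := A) (M := B) (f := f) (x := x) (by
      rw [← hx]; exact Finset.sum_congr rfl fun i _ => by rw [Algebra.smul_def, mul_comm]; rfl)
  have hx' : x = ∑ j, y j • (fun i => φ (a i j)) := by
    funext i
    rw [hxy i, Finset.sum_apply]
    exact Finset.sum_congr rfl fun j _ => by
      rw [Pi.smul_apply, smul_eq_mul, mul_comm, Algebra.smul_def]; rfl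
  rw [hx']
  refine Submodule.sum_mem _ fun j _ => Submodule.smul_mem _ _ ?_
  have hj := hf (fun i => a i j) (by rw [← hay j]; exact Finset.sum_congr rfl fun i _ => mul_comm _ _)
  obtain ⟨v, rfl⟩ : ∃ v : Fin c → A, v = fun i => a i j := ⟨_, rfl⟩
  change (fun i => φ ((fun i => a i j) i)) ∈ _
  generalize (fun i => a i j) = v at hj ⊢
  suffices h : ∀ N : Submodule B (Fin c → B),
      (∀ i j, (Pi.single i (φ (f j)) - Pi.single j (φ (f i)) : Fin c → B) ∈ N) →
      (fun i => φ (v i)) ∈ N by
    refine h _ fun i j => ?_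
    exact Submodule.subset_span ⟨i, j, rfl⟩
  intro N hN
  clear hxy hay hx' hx x
  induction hj using Submodule.span_induction with
  | mem v hv =>
    obtain ⟨i, j, rfl⟩ := hv
    convert hN i j using 1
    funext l
    simp only [Pi.sub_apply, map_sub, Pi.single_apply]
    split_ifs <;> simp
  | zero => simp only [Pi.zero_apply, map_zero]; exact Submodule.zero_mem _
  | add p q _ _ hp hq =>
    simp only [Pi.add_apply, map_add]
    exact Submodule.add_mem _ hp hq
  | smul r p _ hp =>
    simp only [Pi.smul_apply, smul_eq_mul, map_mul]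
    exact Submodule.smul_mem _ (φ r) hp

theorem quasi_map (hφ : φ.Flat) {c : ℕ} (f : Fin c → A) (hf : CAlgX.IsQuasiRegular f) :
    CAlgX.IsQuasiRegular (fun i => φ (f i)) := by
  classical
  letI := φ.toAlgebra
  haveI : Module.Flat A B := hφ
  intro n P hP hPev e
  set J := Ideal.span (Set.range f)
  have hJ : Ideal.span (Set.range fun i => φ (f i)) = J.map φ := by
    rw [Ideal.map_span, ← Set.range_comp]; rfl
  rw [hJ] at hPev ⊢
  rw [← Ideal.map_pow, Ideal.map, Ideal.span, Finsupp.mem_span_image_iff_linearCombination] at hPev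
  obtain ⟨l, hl, hsum⟩ := hPev
  rw [Finsupp.mem_supported] at hl
  let mo : (Fin c →₀ ℕ) → A := fun d => eval f (monomial d 1)
  have hPeval : eval (fun i => φ (f i)) P = ∑ d ∈ P.support, φ (mo d) * P.coeff d := by
    rw [eval_eq']
    refine Finset.sum_congr rfl fun d _ => ?_
    simp only [mo, eval_monomial, one_mul, Finsupp.prod_fintype, pow_zero, implies_true, map_prod,
      map_pow]
    rw [mul_comm]
  obtain ⟨k, a, y, hxy, hay⟩ := Module.Flat.isTrivialRelation_of_sum_smul_eq_zero
    (R := A) (M := B) (ι := P.support ⊕ l.support)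
    (f := Sum.elim (fun d => mo d.1) fun r => r.1)
    (x := Sum.elim (fun d => P.coeff d.1) fun r => -l r.1) (by
      rw [Fintype.sum_sum_type]
      simp only [Sum.elim_inl, Sum.elim_inr, Algebra.smul_def, mul_neg, Finset.sum_neg_distrib]
      rw [Finset.sum_coe_sort P.support (fun d => algebraMap A B (mo d) * P.coeff d),
        Finset.sum_coe_sort l.support (fun r => algebraMap A B r * l r)]
      rw [add_neg_eq_zero]
      refine Eq.trans (hPeval.symm.trans hsum.symm) ?_
      rw [Finsupp.linearCombination_apply, Finsupp.sum]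
      exact Finset.sum_congr rfl fun r _ => mul_comm _ _)
  by_cases he : e ∈ P.support
  · have hx := hxy (Sum.inl ⟨e, he⟩)
    simp only [Sum.elim_inl] at hx
    rw [hx]
    refine Ideal.sum_mem _ fun j _ => ?_
    rw [Algebra.smul_def]
    refine Ideal.mul_mem_right _ _ (Ideal.mem_map_of_mem φ ?_)
    let Q : MvPolynomial (Fin c) A := ∑ d : P.support, monomial d.1 (a (Sum.inl d) j)
    have hQ : Q.IsHomogeneous n := IsHomogeneous.sum _ _ _ fun d _ => by
      refine isHomogeneous_monomial _ ?_
      rw [Finsupp.degree_eq_weight_one]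
      exact hP (mem_support_iff.1 d.2)
    have hQev : eval f Q ∈ J ^ (n + 1) := by
      have h := hay j
      rw [Fintype.sum_sum_type] at h
      simp only [Sum.elim_inl, Sum.elim_inr] at h
      have h1 : eval f Q = ∑ d : P.support, mo d.1 * a (Sum.inl d) j := by
        rw [map_sum]
        refine Finset.sum_congr rfl fun d _ => ?_
        simp only [mo, eval_monomial]
        ring
      rw [h1, eq_neg_of_add_eq_zero_left h]
      exact neg_mem (Ideal.sum_mem _ fun r _ => Ideal.mul_mem_right _ _ (hl r.2))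
    have hc : Q.coeff e = a (Sum.inl ⟨e, he⟩) j := by
      rw [coeff_sum, Finset.sum_eq_single ⟨e, he⟩]
      · rw [coeff_monomial, if_pos rfl]
      · intro d _ hd
        rw [coeff_monomial, if_neg fun h => hd (Subtype.ext h)]
      · intro h; exact absurd (Finset.mem_univ _) h
    exact hc ▸ hf n Q hQ hQev e
  · rw [notMem_support_iff.1 he]; exact Submodule.zero_mem _

theorem transport {R : Type u} {c c' : ℕ} (P : ∀ {m : ℕ}, (Fin m → R) → Prop) (f : Fin c → R)
    (h : c' = c) (hf : P f) : P (f ∘ Fin.cast h) := by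
  subst h
  exact hf

/-- A sequence of kind `k` stays of kind `k` under a flat map, when it does not generate the unit ideal. -/
theorem seq_map (hφ : φ.Flat) (k : RegImm.Kind) (rs : List A) (h : k.Seq A rs)
    (hne : Ideal.ofList (rs.map φ) ≠ ⊤) : k.Seq B (rs.map φ) := by
  have hget : (rs.map φ).get = (fun i => φ (rs.get i)) ∘ Fin.cast (List.length_map ..) :=
    funext fun i => by simp
  cases k with
  | regular =>
    letI := φ.toAlgebra
    haveI : Module.Flat A B := hφ
    refine ⟨(RingTheory.Sequence.IsRegular.toIsWeaklyRegular h).of_flat, fun htop => hne ?_⟩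
    rw [smul_eq_mul, Ideal.mul_top] at htop
    exact htop.symm
  | koszul =>
    have h' : LCI.IsKoszulRegularSeq A rs := h
    rw [← List.ofFn_get rs] at h'
    have h2 := Synt92.CubeBase.isKoszulRegularSeq_of_acyc _ (Synt92.CubeBase.acyc_flat_ringHom φ hφ _
      ((Synt92.CubeBase.isKoszulRegularSeq_iff _).1 h'))
    rw [← List.map_ofFn, List.ofFn_get] at h2
    exact h2
  | h1 =>
    show CAlgX.IsH1Regular _
    rw [hget]
    exact transport (fun {m} g => CAlgX.IsH1Regular g) _ _ (h1_map φ hφ _ h)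
  | quasi =>
    show CAlgX.IsQuasiRegular _
    rw [hget]
    exact transport (fun {m} g => CAlgX.IsQuasiRegular g) _ _ (quasi_map φ hφ _ h)

theorem ker_of_isPushout {R S T W : CommRingCat.{u}} {a : R ⟶ S} {b : R ⟶ T} {c : S ⟶ W}
    {d : T ⟶ W} (sq : IsPushout a b c d) (hb : Function.Surjective b.hom) :
    RingHom.ker c.hom = (RingHom.ker b.hom).map a.hom := by
  refine le_antisymm (fun x hx => ?_) (Ideal.map_le_iff_le_comap.2 fun r hr => ?_)
  · let I := (RingHom.ker b.hom).map a.hom
    let q : S →+* S ⧸ I := Ideal.Quotient.mk I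
    obtain ⟨t, ht⟩ : ∃ t : T →+* S ⧸ I, t.comp b.hom = q.comp a.hom :=
      ⟨RingHom.liftOfSurjective b.hom hb ⟨q.comp a.hom, fun r hr =>
        RingHom.mem_ker.2 (Ideal.Quotient.eq_zero_iff_mem.2 (Ideal.mem_map_of_mem a.hom hr))⟩,
        RingHom.liftOfRightInverse_comp _ _ _ _⟩
    have hw : a ≫ CommRingCat.ofHom q = b ≫ CommRingCat.ofHom t := CommRingCat.hom_ext ht.symm
    have h := congr(($(sq.inl_desc (CommRingCat.ofHom q) (CommRingCat.ofHom t) hw)).hom x)
    refine Ideal.Quotient.eq_zero_iff_mem.1 (h.symm.trans ?_)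
    change (sq.desc _ _ hw).hom (c.hom x) = 0
    rw [RingHom.mem_ker.1 hx, map_zero]
  · rw [Ideal.mem_comap, RingHom.mem_ker, ← RingHom.comp_apply, ← CommRingCat.hom_comp, sq.w,
      CommRingCat.hom_comp, RingHom.comp_apply, RingHom.mem_ker.1 hr, map_zero]

/-- Regular immersions of every kind are stable under flat base change. -/
theorem isRegularImmersion_snd {Z X X' : Scheme.{u}} (i : Z ⟶ X) (k : RegImm.Kind)
    (hi : RegImm.IsRegularImmersion k i) (g : X' ⟶ X) [Flat g] :
    RegImm.IsRegularImmersion k (pullback.snd i g) := by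
  have := hi.1
  refine ⟨inferInstance, fun z => ?_⟩
  obtain ⟨⟨U, hU⟩, hzU, hcl, rs, hrs, hker⟩ := hi.2 (pullback.fst i g z)
  have hz' : pullback.snd i g z ∈ g ⁻¹ᵁ U := by
    change g (pullback.snd i g z) ∈ U
    rwa [← Scheme.Hom.comp_apply, ← pullback.condition, Scheme.Hom.comp_apply]
  obtain ⟨V, hV, hzV, hVU⟩ := exists_isAffineOpen_mem_and_subset (U := g ⁻¹ᵁ U) hz'
  obtain ⟨hW, hsurj⟩ := Synt92.KRImm.isAffine_preimage i hU hcl
  have sq : IsPullback (pullback.fst i g) (pullback.snd i g) i g := IsPullback.of_hasPullback i g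
  let O := pullback.fst i g ⁻¹ᵁ (i ⁻¹ᵁ U) ⊓ pullback.snd i g ⁻¹ᵁ V
  have hO : O = pullback.snd i g ⁻¹ᵁ V := by
    refine le_antisymm inf_le_right (le_inf (fun y hy => ?_) le_rfl)
    show i (pullback.fst i g y) ∈ U
    rw [← Scheme.Hom.comp_apply, pullback.condition, Scheme.Hom.comp_apply]
    exact hVU hy
  have hpo := H47.ChartPullback.isPushout_chart sq hU hW le_rfl hV hVU
  let φ : Γ(X, U) →+* Γ(X', V) := (g.appLE U V hVU).hom
  have hkerV : RingHom.ker ((pullback.snd i g).app V).hom = Ideal.ofList (rs.map φ) := by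
    have h1 := ker_of_isPushout hpo (by rw [← Scheme.Hom.app_eq_appLE]; exact hsurj)
    rw [← Scheme.Hom.app_eq_appLE, hker, Ideal.map_ofList] at h1
    rw [← h1, Scheme.Hom.app_eq_appLE]
    have key : ∀ (O' : (pullback i g).Opens) (e : O' ≤ pullback.snd i g ⁻¹ᵁ V),
        O' = pullback.snd i g ⁻¹ᵁ V →
        RingHom.ker ((pullback.snd i g).appLE V O' e).hom =
          RingHom.ker ((pullback.snd i g).appLE V (pullback.snd i g ⁻¹ᵁ V) le_rfl).hom := by
      rintro O' e rfl; rfl
    exact (key O inf_le_right hO).symm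
  refine ⟨⟨V, hV⟩, hzV, ?_, rs.map φ, seq_map φ (g.flat_appLE hU hV hVU) k rs hrs ?_, hkerV⟩
  · haveI := hcl
    have h := H47.ChartPullback.isPullback_of_openImmersion sq (i ⁻¹ᵁ U).ι V.ι U.ι
      (pullback.snd i g ⁻¹ᵁ V).ι (by
        simp only [Scheme.Opens.range_ι]
        exact (congrArg SetLike.coe hO).symm)
      (p := (pullback.fst i g).resLE (i ⁻¹ᵁ U) (pullback.snd i g ⁻¹ᵁ V) (hO ▸ inf_le_left))
      (q := pullback.snd i g ∣_ V) (r := i ∣_ U) (s := g.resLE U V hVU)
      (Scheme.Hom.resLE_comp_ι _ _) (morphismRestrict_ι _ _) (morphismRestrict_ι _ _)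
      (Scheme.Hom.resLE_comp_ι _ _)
    exact MorphismProperty.of_isPullback h hcl
  · intro htop
    have h1 : (1 : Γ(X', V)) ∈ RingHom.ker ((pullback.snd i g).app V).hom := by
      rw [hkerV, htop]; trivial
    rw [RingHom.mem_ker, map_one] at h1
    haveI : Nonempty ↥(pullback.snd i g ⁻¹ᵁ V) := ⟨⟨z, hzV⟩⟩
    exact one_ne_zero h1

end Groth.Agent.Lib.RegImmFlat
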